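import Mathlib
import Groth.Prelude.Def_Coh
import Groth.Agent.Lib.TopDiff

/-! Finite covers with free direct image over a scheme with only constant functions are products. -/

set_option autoImplicit false
set_option linter.style.haveILetI false
set_option backward.isDefEq.respectTransparency false
set_option backward.isDefEq.respectTransparency.types false

universe u

open CategoryTheory CategoryTheory.Limits AlgebraicGeometry TopologicalSpace Opposite

noncomputable section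

namespace Groth.Agent.FreeFinTriv

variable {k : Type u} [Field k] {P F : Scheme.{u}} {d : ℕ}

/-- Global sections of `F` restricting to bases over every affine open of `P`. -/
def HasBases (f : F ⟶ P) (b : Fin d → Γ(F, ⊤)) : Prop :=
  (Function.Bijective fun c : Fin d → Γ(P, ⊤) => ∑ i, f.appTop (c i) * b i) ∧
  ∀ (U : P.Opens), IsAffineOpen U → Function.Bijective fun c : Fin d → Γ(P, U) =>
    ∑ i, f.app U (c i) * F.presheaf.map (homOfLE (le_top : f ⁻¹ᵁ U ≤ ⊤)).op (b i)

/-- A cocartesian square from a basis. -/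
theorem isPushout_of_bases {K B A C : CommRingCat.{u}} (β : K ⟶ B) (α : K ⟶ A) (ρ : B ⟶ C) (γ : A ⟶ C)
    (hcomm : β ≫ ρ = α ≫ γ) (b : Fin d → B) (hb : Function.Bijective fun c : Fin d → K => ∑ i, β (c i) * b i)
    (hb' : Function.Bijective fun c : Fin d → A => ∑ i, γ (c i) * ρ (b i)) :
    IsPushout β α ρ γ := by
  algebraize [β.hom, α.hom, ρ.hom, γ.hom]
  letI : Algebra K C := (β ≫ ρ).hom.toAlgebra
  haveI : IsScalarTower K B C := IsScalarTower.of_algebraMap_eq' rfl
  haveI : IsScalarTower K A C := IsScalarTower.of_algebraMap_eq' (by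
    show (β ≫ ρ).hom = _
    rw [hcomm]; rfl)
  refine IsPushout.flip (CommRingCat.isPushout_iff_isPushout.2 (⟨?_⟩ : Algebra.IsPushout K A B C))
  obtain ⟨Bb, hB⟩ := TopDiff.basis_of_unique (R := K) b hb
  obtain ⟨Cb, hC⟩ := TopDiff.basis_of_unique (R := A) (fun i => ρ (b i)) hb'
  refine IsBaseChange.of_equiv ((Bb.baseChange A).equiv Cb (Equiv.refl _)) fun x => ?_
  let L₁ : B →ₗ[K] C :=
    (((Bb.baseChange A).equiv Cb (Equiv.refl _)).toLinearMap.restrictScalars K).comp
      (TensorProduct.mk K A B 1)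
  refine LinearMap.congr_fun (Bb.ext (f₁ := L₁)
    (f₂ := (IsScalarTower.toAlgHom K B C).toLinearMap) fun i => ?_) x
  show (Bb.baseChange A).equiv Cb (Equiv.refl _) (1 ⊗ₜ[K] Bb i) = ρ (Bb i)
  rw [← Module.Basis.baseChange_apply A Bb i, Module.Basis.equiv_apply, Equiv.refl_apply, hC, hB]

set_option maxHeartbeats 1000000 in
/-- The chart square over an affine open of the base. -/
theorem isPullback_chart (τ : P ⟶ Spec (CommRingCat.of k)) (hτ : Function.Bijective τ.appTop.hom)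
    (f : F ⟶ P) [IsAffineHom f] {b : Fin d → Γ(F, ⊤)} (hb : HasBases f b) {U : P.Opens} (hU : IsAffineOpen U) :
    IsPullback ((hU.preimage f).fromSpec ≫ F.toSpecΓ) (Spec.map (f.app U))
      (Spec.map ((Scheme.ΓSpecIso (CommRingCat.of k)).inv ≫ (f ≫ τ).appTop)) (hU.fromSpec ≫ τ) := by
  let β : CommRingCat.of k ⟶ Γ(F, ⊤) := (Scheme.ΓSpecIso (CommRingCat.of k)).inv ≫ (f ≫ τ).appTop
  let α : CommRingCat.of k ⟶ Γ(P, U) := (Scheme.ΓSpecIso (CommRingCat.of k)).inv ≫ τ.appLE ⊤ U le_top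
  let ρ : Γ(F, ⊤) ⟶ Γ(F, f ⁻¹ᵁ U) := F.presheaf.map (homOfLE le_top).op
  have e1 : hU.fromSpec ≫ τ = Spec.map α := by
    rw [← IsAffineOpen.SpecMap_appLE_fromSpec τ (isAffineOpen_top _) hU le_top, IsAffineOpen.fromSpec_top,
      Scheme.isoSpec_Spec_inv, ← Spec.map_comp]
  have e2 : (hU.preimage f).fromSpec ≫ F.toSpecΓ = Spec.map ρ := IsAffineOpen.fromSpec_toSpecΓ _
  rw [e1, e2]
  refine isPullback_SpecMap_of_isPushout _ _ _ _ ?_
  have hg : Function.Bijective ((Scheme.ΓSpecIso (CommRingCat.of k)).inv ≫ τ.appTop).hom :=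
    hτ.comp (ConcreteCategory.bijective_of_isIso (Scheme.ΓSpecIso (CommRingCat.of k)).inv)
  refine isPushout_of_bases β α ρ (f.app U) ?_ b ?_ (hb.2 U hU)
  · simp only [β, α, ρ, Category.assoc, Scheme.Hom.comp_appTop, Scheme.Hom.appLE]
    congr 2
    exact (f.naturality _).symm
  · exact hb.1.comp (Function.Bijective.comp_left hg)

set_option maxHeartbeats 1000000 in
/-- A finite cover with free direct image is the product with its global functions. -/
theorem isPullback_toSpecΓ (τ : P ⟶ Spec (CommRingCat.of k)) (hτ : Function.Bijective τ.appTop.hom)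
    (f : F ⟶ P) [IsAffineHom f] {b : Fin d → Γ(F, ⊤)} (hb : HasBases f b) :
    IsPullback F.toSpecΓ f (Spec.map ((Scheme.ΓSpecIso (CommRingCat.of k)).inv ≫ (f ≫ τ).appTop)) τ := by
  let π := Spec.map ((Scheme.ΓSpecIso (CommRingCat.of k)).inv ≫ (f ≫ τ).appTop)
  have hcomm : F.toSpecΓ ≫ π = f ≫ τ := by
    show F.toSpecΓ ≫ Spec.map _ = _
    rw [Spec.map_comp, ← Category.assoc, ← Scheme.toSpecΓ_naturality, Category.assoc,
      toSpecΓ_SpecMap_ΓSpecIso_inv, Category.comp_id]
  let φ : F ⟶ pullback π τ := pullback.lift F.toSpecΓ f hcomm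
  suffices IsIso φ from (IsPullback.of_hasPullback π τ).of_iso (asIso φ).symm (Iso.refl _) (Iso.refl _) (Iso.refl _)
    (by simp [φ]) (by simp [φ]) (by simp [π]) (by simp)
  let q := pullback.snd π τ
  refine (IsZariskiLocalAtTarget.iff_of_iSup_eq_top (P := MorphismProperty.isomorphisms Scheme.{u})
    (fun U : P.affineOpens => q ⁻¹ᵁ U.1) ?_).2 fun U => ?_
  · rw [← Scheme.Hom.preimage_iSup, iSup_affineOpens_eq_top, Scheme.Hom.preimage_top]
  · have hfq : φ ≫ q = f := pullback.lift_snd _ _ _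
    have hchart := isPullback_chart τ hτ f hb U.2
    have h2 : IsPullback ((q ⁻¹ᵁ U.1).ι ≫ pullback.fst π τ) (q ∣_ U.1) π (U.1.ι ≫ τ) :=
      (isPullback_morphismRestrict q U.1).flip.paste_horiz (IsPullback.of_hasPullback π τ)
    have h1' : IsPullback ((f ⁻¹ᵁ U.1).ι ≫ F.toSpecΓ) (f ∣_ U.1) π (U.1.ι ≫ τ) := by
      refine hchart.of_iso (U.2.preimage f).isoSpec.symm (Iso.refl _) U.2.isoSpec.symm (Iso.refl _) ?_ ?_ ?_ ?_
      · simp [IsAffineOpen.isoSpec_inv_ι]
      · rw [← cancel_mono U.1.ι]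
        simp [IsAffineOpen.isoSpec_inv_ι, morphismRestrict_ι, ← IsAffineOpen.SpecMap_appLE_fromSpec f U.2 (U.2.preimage f) le_rfl, Scheme.Hom.app_eq_appLE]
      · simp [π]
      · simp [IsAffineOpen.isoSpec_inv_ι]
    have hop : φ ⁻¹ᵁ (q ⁻¹ᵁ U.1) = f ⁻¹ᵁ U.1 := by rw [← hfq]; rfl
    let i : (φ ⁻¹ᵁ (q ⁻¹ᵁ U.1) : Scheme.{u}) ≅ (f ⁻¹ᵁ U.1 : Scheme.{u}) := F.isoOfEq hop
    have hcomp : φ ∣_ (q ⁻¹ᵁ U.1) = i.hom ≫ (h1'.isoIsPullback _ _ h2).hom := by
      refine h2.hom_ext ?_ ?_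
      · rw [morphismRestrict_ι_assoc, Category.assoc, IsPullback.isoIsPullback_hom_fst]
        simp [φ, i]
      · rw [Category.assoc, IsPullback.isoIsPullback_hom_snd, ← cancel_mono U.1.ι]
        simp [i, morphismRestrict_ι, hfq]
    show IsIso _
    rw [hcomp]
    infer_instance

set_option maxHeartbeats 1000000 in
/-- A finite cover with free direct image is the base change of any of its rational fibres. -/
theorem nonempty_iso_fibre (τ : P ⟶ Spec (CommRingCat.of k)) (hτ : Function.Bijective τ.appTop.hom)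
    (s : Spec (CommRingCat.of k) ⟶ P) (hs : s ≫ τ = 𝟙 _)
    (f : F ⟶ P) [IsAffineHom f] {b : Fin d → Γ(F, ⊤)} (hb : HasBases f b) :
    Nonempty (Over.mk f ≅ Over.mk (pullback.snd (pullback.snd f s) τ)) := by
  have h := isPullback_toSpecΓ τ hτ f hb
  have h2 := (IsPullback.of_hasPullback f s).paste_horiz h
  rw [hs] at h2
  haveI : IsIso (pullback.fst f s ≫ F.toSpecΓ) := h2.isIso_fst_of_isIso
  let a := asIso (pullback.fst f s ≫ F.toSpecΓ)
  have h3 : IsPullback (F.toSpecΓ ≫ a.inv) f (pullback.snd f s) τ := by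
    refine h.of_iso (Iso.refl _) a.symm (Iso.refl _) (Iso.refl _) ?_ ?_ ?_ ?_
    · simp
    · simp
    · simp only [Iso.refl_hom, Category.comp_id, Iso.symm_hom]
      rw [Iso.eq_inv_comp]
      exact h2.w.trans (Category.comp_id _)
    · simp
  exact ⟨Over.isoMk (h3.isoIsPullback _ _ (IsPullback.of_hasPullback (pullback.snd f s) τ))
    (IsPullback.isoIsPullback_hom_snd _ _ _ _)⟩

end Groth.Agent.FreeFinTriv
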